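import Groth.Agent.Lib.LftGrp14.Ring
import Groth.Agent.Lib.GModStable14.Proj
import Groth.Agent.Lib.GrpSchField.Shear
import Groth.Agent.Lib.GrpSchField.Pts
import Mathlib.AlgebraicGeometry.Morphisms.FiniteType

/-!
# A group scheme over a field which is of finite type somewhere is locally of finite type
-/

set_option autoImplicit false
set_option backward.isDefEq.respectTransparency false

universe u

open CategoryTheory CategoryTheory.Limits MonoidalCategory CartesianMonoidalCategory MonObj GrpObj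
open AlgebraicGeometry TensorProduct VecGrp

noncomputable section

namespace GrothLib.LftGrp14

open GrothLib.GModStable14

attribute [local instance] secAlg

variable {k : Type u} [Field k] {G : Over (Spec (CommRingCat.of k))} [GrpObj G]

theorem locallyOfFiniteType_of_open (W : G.left.Opens) (hW : (W : Set G.left).Nonempty)
    [LocallyOfFiniteType (W.ι ≫ G.hom)] : LocallyOfFiniteType G.hom := by
  obtain ⟨w, hw⟩ := hW
  suffices hloc : ∀ h : G.left, ∃ V : G.left.Opens, h ∈ V ∧ LocallyOfFiniteType (V.ι ≫ G.hom) by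
    choose V hgV hV using hloc
    rw [IsZariskiLocalAtSource.iff_of_iSup_eq_top (P := @LocallyOfFiniteType) V
      (top_le_iff.mp fun g _ => TopologicalSpace.Opens.mem_iSup.mpr ⟨g, hgV g⟩)]
    exact hV
  intro h
  let W' : Over (Spec (CommRingCat.of k)) := Over.mk (W.ι ≫ G.hom)
  let wι : W' ⟶ G := Over.homMk W.ι rfl
  haveI : LocallyOfFiniteType W'.hom := ‹LocallyOfFiniteType (W.ι ≫ G.hom)›
  let τ : G ⊗ G ⟶ G ⊗ G := lift (fst G G * snd G G) (fst G G)
  haveI : IsIso τ := ⟨lift (snd G G) ((snd G G)⁻¹ * fst G G),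
    by ext <;> simp [τ, comp_lift, MonObj.comp_mul, GrpObj.comp_inv],
    by ext <;> simp [τ, comp_lift, MonObj.comp_mul, GrpObj.comp_inv]⟩
  haveI : IsIso τ.left := GrothLib.GrpSchField.isIso_left τ
  haveI : IsOpenImmersion (G ◁ wι).left :=
    MorphismProperty.of_isPullback (P := @IsOpenImmersion) (GrothLib.GrpSchField.whiskerLeft_snd_isPullback G wι).flip
      (inferInstanceAs (IsOpenImmersion W.ι))
  let j := (G ◁ wι) ≫ τ
  haveI : IsOpenImmersion j.left := by rw [Over.comp_left]; infer_instance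
  have hj : j ≫ snd G G = fst G W' := by simp [j, τ]
  haveI : LocallyOfFiniteType (fst G W').left :=
    MorphismProperty.pullback_fst (P := @LocallyOfFiniteType) G.hom W'.hom ‹_›
  -- a point of the sheared product over `h`
  let σ : G ⊗ G ⟶ G ⊗ G := lift (fst G G * (snd G G)⁻¹) (snd G G)
  obtain ⟨r, hr₁, hr₂⟩ := Scheme.Pullback.exists_preimage_pullback (f := G.hom) (g := G.hom) h w
    (Subsingleton.elim (α := Spec (CommRingCat.of k)) _ _)
  obtain ⟨r₀, hr₀, -⟩ := Scheme.exists_preimage_of_isPullback (GrothLib.GrpSchField.whiskerLeft_snd_isPullback G wι)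
    (σ.left r) (⟨w, hw⟩ : W.toScheme) (by
      rw [← Scheme.Hom.comp_apply, ← Over.comp_left, show σ ≫ snd G G = snd G G from lift_snd _ _]
      exact hr₂)
  have hz : (fst G G).left (j.left r₀) = h := by
    rw [show j.left r₀ = τ.left (σ.left r) by rw [Over.comp_left, Scheme.Hom.comp_apply, hr₀],
      ← Scheme.Hom.comp_apply, ← Over.comp_left, ← Scheme.Hom.comp_apply, ← Over.comp_left,
      show σ ≫ τ ≫ fst G G = fst G G by simp [σ, τ, comp_lift, MonObj.comp_mul, GrpObj.comp_inv]]
    exact hr₁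
  let z := j.left r₀
  obtain ⟨U₁, hU₁, hgU, -⟩ := exists_isAffineOpen_mem_and_subset (x := (snd G G).left z) (U := (⊤ : G.left.Opens)) trivial
  obtain ⟨U₂, hU₂, hhU, -⟩ := exists_isAffineOpen_mem_and_subset (x := h) (U := (⊤ : G.left.Opens)) trivial
  let B₁ := Γ(G.left, U₁)
  let B₂ := Γ(G.left, U₂)
  let v₁ := chart hU₁
  let v₂ := chart hU₂
  let m := (pullbackSpecIso k B₂ B₁).inv ≫
    pullback.map _ _ G.hom G.hom v₂.left v₁.left (𝟙 _) (by rw [Category.comp_id]; exact (Over.w v₂).symm)
      (by rw [Category.comp_id]; exact (Over.w v₁).symm)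
  haveI : IsOpenImmersion m := inferInstance
  have hm₂ : m ≫ (snd G G).left =
      Spec.map (CommRingCat.ofHom (Algebra.TensorProduct.includeRight : B₁ →ₐ[k] B₂ ⊗[k] B₁).toRingHom) ≫ hU₁.fromSpec := by
    show ((pullbackSpecIso k B₂ B₁).inv ≫ pullback.map _ _ _ _ _ _ _ _ _) ≫ pullback.snd G.hom G.hom = _
    rw [Category.assoc, pullback.lift_snd, ← Category.assoc, pullbackSpecIso_inv_snd]
    rfl
  have hm₁ : m ≫ (fst G G).left =
      Spec.map (CommRingCat.ofHom (Algebra.TensorProduct.includeLeftRingHom : B₂ →+* B₂ ⊗[k] B₁)) ≫ hU₂.fromSpec := by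
    show ((pullbackSpecIso k B₂ B₁).inv ≫ pullback.map _ _ _ _ _ _ _ _ _) ≫ pullback.fst G.hom G.hom = _
    rw [Category.assoc, pullback.lift_fst, ← Category.assoc, pullbackSpecIso_inv_fst]
    rfl
  obtain ⟨p, hp⟩ : z ∈ Set.range m := by
    rw [Scheme.Hom.comp_base, TopCat.coe_comp, Set.range_comp,
      Set.range_eq_univ.mpr (pullbackSpecIso k B₂ B₁).inv.surjective, Set.image_univ, Scheme.Pullback.range_map]
    constructor
    · show (fst G G).left z ∈ Set.range hU₂.fromSpec
      rw [hU₂.range_fromSpec, hz]; exact hhU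
    · show (snd G G).left z ∈ Set.range hU₁.fromSpec
      rw [hU₁.range_fromSpec]; exact hgU
  obtain ⟨_, ⟨_, ⟨f, rfl⟩, rfl⟩, hpf, hfV⟩ := PrimeSpectrum.isBasis_basic_opens.exists_subset_of_mem_open
    (show p ∈ m ⁻¹' Set.range j.left from ⟨r₀, hp.symm⟩) (j.left.isOpenEmbedding.isOpen_range.preimage m.continuous)
  let e : Spec (CommRingCat.of (Localization.Away f)) ⟶ Spec (CommRingCat.of (B₂ ⊗[k] B₁)) :=
    Spec.map (CommRingCat.ofHom (algebraMap (B₂ ⊗[k] B₁) (Localization.Away f)))
  haveI : IsOpenImmersion e := .of_isLocalization f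
  have hrange : Set.range (e ≫ m) ⊆ Set.range j.left := by
    rintro _ ⟨y, rfl⟩
    rw [Scheme.Hom.comp_apply]
    refine hfV ?_
    show e y ∈ PrimeSpectrum.basicOpen f
    rw [← SetLike.mem_coe, ← PrimeSpectrum.localization_away_comap_range (Localization.Away f) f]
    exact ⟨y, rfl⟩
  let l := IsOpenImmersion.lift j.left (e ≫ m) hrange
  haveI : IsOpenImmersion l := by
    have : IsOpenImmersion (l ≫ j.left) := by rw [IsOpenImmersion.lift_fac]; infer_instance
    exact IsOpenImmersion.of_comp l j.left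
  have hlft : LocallyOfFiniteType ((e ≫ m) ≫ (snd G G).left) := by
    rw [← IsOpenImmersion.lift_fac j.left (e ≫ m) hrange, Category.assoc, ← Over.comp_left, hj]
    infer_instance
  rw [Category.assoc, hm₂, ← Category.assoc, ← Spec.map_comp] at hlft
  have hft := @locallyOfFiniteType_of_comp _ _ _ _ _ hlft
  rw [HasRingHomProperty.Spec_iff (P := @LocallyOfFiniteType)] at hft
  obtain ⟨c, hc, hcft⟩ := exists_finiteType_away f p hpf hft
  let ec : Spec (CommRingCat.of (Localization.Away c)) ⟶ Spec (CommRingCat.of B₂) :=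
    Spec.map (CommRingCat.ofHom (algebraMap B₂ (Localization.Away c)))
  haveI : IsOpenImmersion ec := .of_isLocalization c
  let V : G.left.Opens := (ec ≫ hU₂.fromSpec).opensRange
  refine ⟨V, ?_, ?_⟩
  · show h ∈ Set.range (ec ≫ hU₂.fromSpec)
    let q : PrimeSpectrum B₂ := PrimeSpectrum.comap Algebra.TensorProduct.includeLeftRingHom p
    obtain ⟨y, hy⟩ : q ∈ Set.range ec := by
      show q ∈ Set.range (PrimeSpectrum.comap (algebraMap B₂ (Localization.Away c)))
      rw [PrimeSpectrum.localization_away_comap_range (Localization.Away c) c]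
      exact hc
    refine ⟨y, ?_⟩
    rw [Scheme.Hom.comp_apply, hy]
    show (Spec.map (CommRingCat.ofHom Algebra.TensorProduct.includeLeftRingHom) ≫ hU₂.fromSpec) p = h
    rw [← hm₁, Scheme.Hom.comp_apply, hp]
    exact hz
  · let iso := (ec ≫ hU₂.fromSpec).isoOpensRange
    rw [← MorphismProperty.cancel_left_of_respectsIso @LocallyOfFiniteType iso.hom, ← Category.assoc,
      Scheme.Hom.isoOpensRange_hom_ι, Category.assoc,
      show hU₂.fromSpec ≫ G.hom = Spec.map (CommRingCat.ofHom (algebraMap k B₂)) from Over.w v₂, ← Spec.map_comp,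
      HasRingHomProperty.Spec_iff (P := @LocallyOfFiniteType)]
    exact hcft

end GrothLib.LftGrp14
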