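import Mathlib.RingTheory.Spectrum.Prime.Chevalley
import Mathlib.RingTheory.TensorProduct.Free
import Mathlib.RingTheory.FiniteType
import Mathlib.RingTheory.Localization.Away.Basic
import Mathlib.LinearAlgebra.Basis.VectorSpace

/-!
# Finite type of a tensor factor from finite type of an open piece of a tensor product over a field
-/

set_option autoImplicit false

universe u

open TensorProduct

namespace GrothLib.LftGrp14

variable {k : Type u} [Field k] {B₁ B₂ : Type u} [CommRing B₁] [CommRing B₂] [Algebra k B₁] [Algebra k B₂]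

/-- A tensor involves finitely many elements of the left factor. -/
theorem exists_finset_mem_range (t : B₂ ⊗[k] B₁) :
    ∃ S : Finset B₂, ∀ C : Subalgebra k B₂, ↑S ⊆ (C : Set B₂) →
      t ∈ (Algebra.TensorProduct.map C.val (AlgHom.id k B₁)).range := by
  classical
  induction t using TensorProduct.induction_on with
  | zero => exact ⟨∅, fun C _ => Subalgebra.zero_mem _⟩
  | tmul b c => exact ⟨{b}, fun C hC => ⟨(⟨b, hC (by simp)⟩ : C) ⊗ₜ c, rfl⟩⟩
  | add p q hp hq =>
    obtain ⟨S, hS⟩ := hp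
    obtain ⟨S', hS'⟩ := hq
    exact ⟨S ∪ S', fun C hC => Subalgebra.add_mem _ (hS C fun x hx => hC (by simp [Finset.mem_coe.1 hx]))
      (hS' C fun x hx => hC (by simp [Finset.mem_coe.1 hx]))⟩

theorem exists_finiteType_away (f : B₂ ⊗[k] B₁) (p : PrimeSpectrum (B₂ ⊗[k] B₁)) (hf : f ∉ p.asIdeal)
    (h : ((algebraMap (B₂ ⊗[k] B₁) (Localization.Away f)).comp
      (Algebra.TensorProduct.includeRight : B₁ →ₐ[k] B₂ ⊗[k] B₁).toRingHom).FiniteType) :
    ∃ c : B₂, c ⊗ₜ[k] (1 : B₁) ∉ p.asIdeal ∧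
      ((algebraMap B₂ (Localization.Away c)).comp (algebraMap k B₂)).FiniteType := by
  classical
  let T := B₂ ⊗[k] B₁
  let D := Localization.Away f
  letI : Algebra B₁ D := ((algebraMap T D).comp
    (Algebra.TensorProduct.includeRight : B₁ →ₐ[k] T).toRingHom).toAlgebra
  haveI : Algebra.FiniteType B₁ D := h
  obtain ⟨s, hs⟩ := Algebra.FiniteType.out (R := B₁) (A := D)
  have hsurj : ∀ d : D, ∃ (n : ℕ) (x : T), d * algebraMap T D (f ^ n) = algebraMap T D x := fun d => by
    obtain ⟨⟨x, _, n, rfl⟩, hx⟩ := IsLocalization.surj (Submonoid.powers f) d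
    exact ⟨n, x, hx⟩
  choose n x hx using hsurj
  choose S hS using fun t : T => exists_finset_mem_range t
  let gens : Finset B₂ := S f ∪ s.biUnion fun d => S (x d)
  let C : Subalgebra k B₂ := Algebra.adjoin k (gens : Set B₂)
  let φ : C ⊗[k] B₁ →ₐ[k] T := Algebra.TensorProduct.map C.val (AlgHom.id k B₁)
  obtain ⟨f₀, hf₀⟩ : f ∈ φ.range :=
    hS f C fun b hb => Algebra.subset_adjoin (by simp [gens, Finset.mem_coe.1 hb])
  have hxR : ∀ d ∈ s, x d ∈ φ.range := fun d hd => hS (x d) C fun b hb =>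
    Algebra.subset_adjoin (by
      simp only [gens, Finset.mem_coe, Finset.mem_union, Finset.mem_biUnion]
      exact Or.inr ⟨d, hd, Finset.mem_coe.1 hb⟩)
  have hfpow : ∀ m, f ^ m ∈ φ.range := fun m => Subalgebra.pow_mem _ ((AlgHom.mem_range φ).2 ⟨f₀, hf₀⟩) m
  have hall : ∀ d : D, ∃ (m : ℕ) (r : T), r ∈ φ.range ∧ d * algebraMap T D (f ^ m) = algebraMap T D r := by
    intro d
    have hd : d ∈ Algebra.adjoin B₁ (s : Set D) := hs ▸ Algebra.mem_top
    induction hd using Algebra.adjoin_induction with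
    | mem d hd => exact ⟨n d, x d, hxR d hd, hx d⟩
    | algebraMap b =>
      refine ⟨0, (1 : B₂) ⊗ₜ b, ⟨(1 : C) ⊗ₜ b, rfl⟩, ?_⟩
      rw [pow_zero, map_one, mul_one]
      rfl
    | add d e _ _ hd he =>
      obtain ⟨m, r, hr, hr'⟩ := hd
      obtain ⟨m', r', hs₁, hs'⟩ := he
      exact ⟨m + m', r * f ^ m' + r' * f ^ m, Subalgebra.add_mem _ (Subalgebra.mul_mem _ hr (hfpow m'))
        (Subalgebra.mul_mem _ hs₁ (hfpow m)), by rw [map_add, map_mul, map_mul, ← hr', ← hs', pow_add, map_mul]; ring⟩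
    | mul d e _ _ hd he =>
      obtain ⟨m, r, hr, hr'⟩ := hd
      obtain ⟨m', r', hs₁, hs'⟩ := he
      exact ⟨m + m', r * r', Subalgebra.mul_mem _ hr hs₁, by rw [map_mul, ← hr', ← hs', pow_add, map_mul]; ring⟩
  let e := Module.Free.chooseBasis k B₁
  let β₂ := Algebra.TensorProduct.basis B₂ e
  let β := Algebra.TensorProduct.basis C e
  have hcoord : ∀ (t : C ⊗[k] B₁) i, β₂.repr (φ t) i = (β.repr t i : B₂) := by
    intro t i
    induction t using TensorProduct.induction_on with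
    | zero => simp
    | tmul c b =>
      show β₂.repr ((c : B₂) ⊗ₜ[k] b) i = _
      simp [β₂, β]
    | add a b ha hb => simp only [map_add, Finsupp.add_apply, ha, hb, Subalgebra.coe_add]
  let q : PrimeSpectrum C := PrimeSpectrum.comap (algebraMap C (C ⊗[k] B₁)) (PrimeSpectrum.comap φ.toRingHom p)
  have hmem : q ∈ PrimeSpectrum.comap (algebraMap C (C ⊗[k] B₁)) '' PrimeSpectrum.basicOpen f₀ :=
    ⟨PrimeSpectrum.comap φ.toRingHom p, by
      show φ f₀ ∉ p.asIdeal
      exact hf₀ ▸ hf, rfl⟩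
  obtain ⟨_, ⟨_, ⟨c, rfl⟩, rfl⟩, hqc, hcU⟩ := PrimeSpectrum.isBasis_basic_opens.exists_subset_of_mem_open hmem
    (PrimeSpectrum.isOpenMap_comap_algebraMap_tensorProduct_of_field _ (PrimeSpectrum.basicOpen f₀).isOpen)
  have hcb : ∀ b : B₂, ∃ N : ℕ, (c : B₂) ^ N * b ∈ C := by
    intro b
    let I : Ideal C :=
      { carrier := {z | (z : B₂) * b ∈ C}
        add_mem' := fun {z w} hz hw => by
          show ((z + w : C) : B₂) * b ∈ C
          rw [Subalgebra.coe_add, add_mul]; exact C.add_mem hz hw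
        zero_mem' := by show ((0 : C) : B₂) * b ∈ C; simp
        smul_mem' := fun z w hw => by
          show ((z * w : C) : B₂) * b ∈ C
          rw [Subalgebra.coe_mul, mul_assoc]; exact C.mul_mem z.2 hw }
    obtain ⟨m, r, ⟨r₀, rfl⟩, hr⟩ := hall (algebraMap T D (b ⊗ₜ 1))
    rw [← map_mul] at hr
    obtain ⟨⟨_, m', rfl⟩, hm'⟩ := IsLocalization.exists_of_eq (M := Submonoid.powers f) hr
    have hkey : b • φ (f₀ ^ (m' + m)) = φ (f₀ ^ m' * r₀) := by
      have e : b • φ (f₀ ^ (m' + m)) = (b ⊗ₜ[k] (1 : B₁)) * φ (f₀ ^ (m' + m)) := by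
        rw [Algebra.smul_def]; rfl
      rw [e, map_mul, map_pow, map_pow, show φ f₀ = f from hf₀]
      exact Eq.trans (by rw [pow_add]; ring) hm'
    have hcI : ∀ i, β.repr (f₀ ^ (m' + m)) i ∈ I := fun i => by
      show (β.repr (f₀ ^ (m' + m)) i : B₂) * b ∈ C
      have h1 := congrArg (fun t => β₂.repr t i) hkey
      simp only [map_smul, Finsupp.smul_apply, hcoord, smul_eq_mul] at h1
      rw [mul_comm, h1]
      exact SetLike.coe_mem _
    obtain ⟨N, hN⟩ : c ∈ I.radical := by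
      rw [Ideal.radical_eq_sInf, Submodule.mem_sInf]
      intro Q hQ
      by_contra hc
      obtain ⟨P, hP, hPQ⟩ := hcU (show (⟨Q, hQ.2⟩ : PrimeSpectrum C) ∈ PrimeSpectrum.basicOpen c from hc)
      refine (show f₀ ∉ P.asIdeal from hP) (P.isPrime.mem_of_pow_mem (m' + m) ?_)
      rw [← β.linearCombination_repr (f₀ ^ (m' + m)), Finsupp.linearCombination_apply]
      refine Ideal.sum_mem _ fun i _ => ?_
      beta_reduce
      rw [Algebra.smul_def]
      refine Ideal.mul_mem_right _ _ ?_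
      show β.repr (f₀ ^ (m' + m)) i ∈ (PrimeSpectrum.comap (algebraMap C (C ⊗[k] B₁)) P).asIdeal
      rw [hPQ]
      exact hQ.1 (hcI i)
    exact ⟨N, by simpa using (show ((c ^ N : C) : B₂) * b ∈ C from hN)⟩
  refine ⟨c, fun hc => hqc ?_, ?_⟩
  · show φ ((c : C) ⊗ₜ 1) ∈ p.asIdeal
    exact hc
  · let E := Localization.Away (c : B₂)
    rw [← IsScalarTower.algebraMap_eq k B₂ E, RingHom.finiteType_algebraMap]
    refine ⟨⟨insert (IsLocalization.Away.invSelf (c : B₂)) (gens.image (algebraMap B₂ E)), ?_⟩⟩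
    rw [eq_top_iff]
    intro y _
    let A' := Algebra.adjoin k (↑(insert (IsLocalization.Away.invSelf (c : B₂)) (gens.image (algebraMap B₂ E))) : Set E)
    have hC : ∀ z ∈ C, algebraMap B₂ E z ∈ A' := fun z hz => by
      have h1 : (IsScalarTower.toAlgHom k B₂ E) z ∈ C.map (IsScalarTower.toAlgHom k B₂ E) := ⟨z, hz, rfl⟩
      rw [AlgHom.map_adjoin] at h1
      refine Algebra.adjoin_mono ?_ h1
      intro w hw
      obtain ⟨v, hv, rfl⟩ := hw
      simp only [Finset.coe_insert, Finset.coe_image]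
      exact Or.inr ⟨v, hv, rfl⟩
    have hinv : (IsLocalization.Away.invSelf (c : B₂) : E) ∈ A' := Algebra.subset_adjoin (by simp)
    obtain ⟨⟨b, _, j, rfl⟩, hb⟩ := IsLocalization.surj (Submonoid.powers (c : B₂)) y
    obtain ⟨N, hN⟩ := hcb b
    have h1 : algebraMap B₂ E (c : B₂) * (IsLocalization.Away.invSelf (c : B₂) : E) = 1 :=
      IsLocalization.Away.mul_invSelf (c : B₂)
    have hy : y = algebraMap B₂ E ((c : B₂) ^ N * b) * (IsLocalization.Away.invSelf (c : B₂) : E) ^ (N + j) := by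
      have hb' : y * algebraMap B₂ E (c : B₂) ^ j = algebraMap B₂ E b := by rw [← map_pow]; exact hb
      calc y = y * (algebraMap B₂ E (c : B₂) * IsLocalization.Away.invSelf (c : B₂)) ^ (N + j) := by
            rw [h1, one_pow, mul_one]
        _ = _ := by rw [map_mul, map_pow, ← hb', mul_pow, pow_add, pow_add]; ring
    rw [hy]
    exact A'.mul_mem (hC _ hN) (A'.pow_mem hinv _)

end GrothLib.LftGrp14
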